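import Cfsg.Prelude.Def_KGroupFacts
import Mathlib.Tactic.Group

/-!
# The order of the outer automorphism group (helper997)
-/

set_option autoImplicit false

namespace Cfsg.Agent.H997.OutCard

universe u

variable {G : Type u} [Group G]

/-- The inner automorphisms are the range of the conjugation map. -/
theorem card_out : Nat.card (Cfsg.Out G) = (MulAut.conj : G →* MulAut G).range.index := rfl

/-- If every automorphism is inner then `Out G` is trivial. -/
theorem card_eq_one (h : ∀ α : MulAut G, ∃ g : G, α = MulAut.conj g) : Nat.card (Cfsg.Out G) = 1 := by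
  rw [card_out, Subgroup.index_eq_one, eq_top_iff]
  rintro α -
  obtain ⟨g, hg⟩ := h α
  exact ⟨g, hg.symm⟩

theorem card_eq_one' (h : ∀ α : MulAut G, α ∈ (MulAut.conj : G →* MulAut G).range) : Nat.card (Cfsg.Out G) = 1 := by
  rw [card_out, Subgroup.index_eq_one, eq_top_iff]
  rintro α -
  exact h α

/-- Two outer classes at most, and an outer automorphism: `Out G` has order two. -/
theorem card_eq_two {α : MulAut G} (ho : ∀ g : G, α ≠ MulAut.conj g)
    (hi : (MulAut.conj : G →* MulAut G).range.index ∣ 2) : Nat.card (Cfsg.Out G) = 2 := by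
  rw [card_out]
  rcases (Nat.dvd_prime Nat.prime_two).1 hi with h | h
  · rw [Subgroup.index_eq_one] at h
    have h1 : α ∈ (MulAut.conj : G →* MulAut G).range := by rw [h]; exact Subgroup.mem_top _
    obtain ⟨g, hg⟩ := h1
    exact absurd hg.symm (ho g)
  · exact h

theorem card_eq_two' {α : MulAut G} (ho : ∀ g : G, α ≠ MulAut.conj g)
    (hi : (MulAut.conj : G →* MulAut G).range.index = 1 ∨ (MulAut.conj : G →* MulAut G).range.index = 2) :
    Nat.card (Cfsg.Out G) = 2 :=
  card_eq_two ho (by rcases hi with h | h <;> rw [h]; exact one_dvd 2)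

theorem card_eq_two_of_le {α : MulAut G} (ho : ∀ g : G, α ≠ MulAut.conj g)
    (h0 : (MulAut.conj : G →* MulAut G).range.index ≠ 0)
    (hi : (MulAut.conj : G →* MulAut G).range.index ≤ 2) : Nat.card (Cfsg.Out G) = 2 :=
  card_eq_two' ho (by omega)

/-- a subgroup containing the product of any two elements outside it has index one or two -/
theorem index_dvd_two_of {A : Type*} [Group A] (H : Subgroup A) (h : ∀ a b : A, a ∈ H ∨ b ∈ H ∨ a * b ∈ H) :
    H.index ∣ 2 := by
  classical
  by_cases hall : ∀ a : A, a ∈ H
  · have : H = ⊤ := by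
      rw [eq_top_iff]; rintro a -; exact hall a
    rw [this, Subgroup.index_top]; exact one_dvd _
  · push Not at hall
    obtain ⟨a, ha⟩ := hall
    have h2 : H.index = 2 := by
      rw [Subgroup.index_eq_two_iff]
      refine ⟨a, fun b => ?_⟩
      by_cases hb : b ∈ H
      · refine Or.inr ⟨hb, fun h' => ha ?_⟩
        have := mul_mem (inv_mem hb) h'
        rwa [inv_mul_cancel_left] at this
      · refine Or.inl ⟨?_, hb⟩
        rcases h b a with h' | h' | h'
        · exact absurd h' hb
        · exact absurd h' ha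
        · exact h'
    rw [h2]

/-- The index of the inner automorphisms divides two if the quotient of two outer automorphisms is inner. -/
theorem index_dvd (h : ∀ α β : MulAut G, (∀ g : G, α ≠ MulAut.conj g) → (∀ g : G, β ≠ MulAut.conj g) →
    ∃ g : G, α * β = MulAut.conj g) : (MulAut.conj : G →* MulAut G).range.index ∣ 2 := by
  classical
  by_cases hall : ∀ α : MulAut G, α ∈ (MulAut.conj : G →* MulAut G).range
  · have : (MulAut.conj : G →* MulAut G).range = ⊤ := by
      rw [eq_top_iff]; rintro α -; exact hall α
    rw [this, Subgroup.index_top]; exact one_dvd _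
  · push Not at hall
    obtain ⟨α, hα⟩ := hall
    have hne : ∀ β : MulAut G, β ∉ (MulAut.conj : G →* MulAut G).range → ∀ g : G, β ≠ MulAut.conj g := by
      rintro β hβ g rfl; exact hβ ⟨g, rfl⟩
    have h2 : (MulAut.conj : G →* MulAut G).range.index = 2 := by
      rw [Subgroup.index_eq_two_iff]
      refine ⟨α, fun b => ?_⟩
      by_cases hb : b ∈ (MulAut.conj : G →* MulAut G).range
      · refine Or.inr ⟨hb, fun h' => hα ?_⟩
        have := mul_mem (inv_mem hb) h'
        rwa [inv_mul_cancel_left] at this
      · refine Or.inl ⟨?_, hb⟩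
        obtain ⟨g, hg⟩ := h b α (hne b hb) (hne α hα)
        exact ⟨g, hg.symm⟩
    rw [h2]

/-- Conjugation by an element outside a normal subgroup containing its centraliser is an outer automorphism. -/
theorem conjNormal_outer {F : Type*} [Group F] {K : Subgroup F} [K.Normal] {t : F} (ht : t ∉ K)
    (hc : ∀ c : F, (∀ x ∈ K, c * x = x * c) → c ∈ K) (g : K) : (MulAut.conjNormal t : MulAut K) ≠ MulAut.conj g := by
  intro h
  have h1 : (g : F)⁻¹ * t ∈ K := by
    refine hc _ fun x hx => ?_
    have h2 := congrArg (fun β : MulAut K => ((β ⟨x, hx⟩ : K) : F)) h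
    simp only [MulAut.conjNormal_apply, MulAut.conj_apply, Subgroup.coe_mul, InvMemClass.coe_inv] at h2
    calc (g : F)⁻¹ * t * x = (g : F)⁻¹ * (t * x * t⁻¹) * t := by group
      _ = (g : F)⁻¹ * (g * x * (g : F)⁻¹) * t := by rw [h2]
      _ = x * ((g : F)⁻¹ * t) := by group
  exact ht (by simpa using K.mul_mem g.2 h1)

end Cfsg.Agent.H997.OutCard
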