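import Cfsg.Agent.H997.OutCard
import Cfsg.Agent.KFacts.HN.Sheet
import Cfsg.Agent.HN.StepFive
import Cfsg.Agent.HN.Hom
import Cfsg.Agent.HN.FusionOut

/-!
# The outer automorphism of the presented Harada–Norton group (helper997)

`x ↦ x, y ↦ y, z ↦ z x², t ↦ t²` is an automorphism; it is trivial on `2.HS = K`.
-/

set_option autoImplicit false

namespace Cfsg.Agent.H997.OutHN

open Cfsg.Agent.HN Cfsg.Agent.HN.Pres Cfsg.Agent.HN.HS100 Cfsg.Agent.HN.H0Basic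

theorem mul_mem_of_not {h k : H0} (hh : h ∉ K) (hk : k ∉ K) : h * k ∈ K := by
  rw [mem_K_iff] at *
  rw [map_mul]
  rcases Int.units_eq_one_or (sgn h) with h1 | h1
  · exact absurd h1 hh
  · rcases Int.units_eq_one_or (sgn k) with h2 | h2
    · exact absurd h2 hk
    · rw [h1, h2]; decide

open Classical in
/-- The central automorphism of `H0`. -/
noncomputable def twist : H0 →* H0 :=
  MonoidHom.mk' (fun h => if h ∈ K then h else h * τ) (by
    intro h k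
    by_cases hh : h ∈ K <;> by_cases hk : k ∈ K
    · rw [if_pos hh, if_pos hk, if_pos (K.mul_mem hh hk)]
    · have h1 : h * k ∉ K := fun h1 => hk ((Subgroup.mul_mem_cancel_left K hh).1 h1)
      rw [if_pos hh, if_neg hk, if_neg h1, mul_assoc]
    · have h1 : h * k ∉ K := fun h1 => hh ((Subgroup.mul_mem_cancel_right K hk).1 h1)
      rw [if_neg hh, if_pos hk, if_neg h1, mul_assoc, mul_assoc, τ_comm k]
    · rw [if_neg hh, if_neg hk, if_pos (mul_mem_of_not hh hk)]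
      calc h * k = h * k * (τ * τ) := by rw [τ_mul_τ, mul_one]
        _ = h * (k * τ) * τ := by group
        _ = h * (τ * k) * τ := by rw [τ_comm k]
        _ = h * τ * (k * τ) := by group)

theorem twist_of_mem {h : H0} (hh : h ∈ K) : twist h = h := if_pos hh
theorem twist_of_not {h : H0} (hh : h ∉ K) : twist h = h * τ := if_neg hh

theorem twist_gx : twist gx = gx := twist_of_mem gx_mem
theorem twist_gy : twist gy = gy := twist_of_mem gy_mem
theorem twist_gz : twist gz = gz * τ := twist_of_not gz_not_mem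

theorem ψ_τ : NormalH.ψ τ = Pres.hx ^ 2 := by rw [τ, map_pow, NormalH.ψ_gx]

/-- the computation in `⟨z, x², t⟩ = A₅` -/
theorem cube {G : Type*} [Group G] {Z S T : G} (hSS : S * S = 1) (hZZ : Z * Z = 1) (hSZ : Z * S = S * Z)
    (hST : T * S = S * T⁻¹) (hr : (T * T * Z * T⁻¹) * S * (T * T * Z * T⁻¹)⁻¹ = Z) :
    (Z * S * (T * T)) ^ 3 = 1 := by
  have hZi : Z⁻¹ = Z := inv_eq_of_mul_eq_one_left hZZ
  have hST' : T⁻¹ * S = S * T := by
    calc T⁻¹ * S = T⁻¹ * (S * T⁻¹) * T := by group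
      _ = T⁻¹ * (T * S) * T := by rw [hST]
      _ = S * T := by group
  have h1 : Z * S * (T * T) * Z = T⁻¹ * T⁻¹ * Z * (T * T) := by
    have h2 : (T * T * Z * T⁻¹) * S * (T * T * Z * T⁻¹)⁻¹ = T * T * (Z * (T⁻¹ * S) * T * Z⁻¹) * (T⁻¹ * T⁻¹) := by group
    rw [h2, hST', hZi] at hr
    calc Z * S * (T * T) * Z = T⁻¹ * T⁻¹ * (T * T * (Z * (S * T) * T * Z) * (T⁻¹ * T⁻¹)) * (T * T) := by group
      _ = T⁻¹ * T⁻¹ * Z * (T * T) := by rw [hr]
  have h3 : T * T * S * (T * T) = S := by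
    calc T * T * S * (T * T) = T * (T * S) * (T * T) := by group
      _ = T * (S * T⁻¹) * (T * T) := by rw [hST]
      _ = (T * S) * T := by group
      _ = (S * T⁻¹) * T := by rw [hST]
      _ = S := by group
  have h4 : (Z * S) * (Z * S) = 1 := by
    calc (Z * S) * (Z * S) = (Z * S) * (S * Z) := by rw [hSZ]
      _ = Z * (S * S) * Z := by group
      _ = 1 := by rw [hSS, mul_one, hZZ]
  calc (Z * S * (T * T)) ^ 3 = (Z * S * (T * T) * Z) * S * (T * T) * Z * S * (T * T) := by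
        rw [pow_succ, pow_two]; group
    _ = (T⁻¹ * T⁻¹ * Z * (T * T)) * S * (T * T) * Z * S * (T * T) := by rw [h1]
    _ = T⁻¹ * T⁻¹ * Z * (T * T * S * (T * T)) * Z * S * (T * T) := by group
    _ = T⁻¹ * T⁻¹ * ((Z * S) * (Z * S)) * (T * T) := by rw [h3]; group
    _ = 1 := by rw [h4]; group

theorem r_eq : InvHN.r = Pres.ht * Pres.ht * Pres.hz * Pres.ht⁻¹ := by
  have h : InvHN.r = Pres.ht * (Pres.ht * (Pres.hz * (Pres.ht⁻¹ * 1))) := rfl
  rw [h, mul_one]; group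

theorem rel_t5 : Pres.ht ^ 5 = 1 := mk_extra (by simp [Cfsg.Spor.HN.extra])

theorem rel_tx : (Pres.hx⁻¹ * Pres.ht * Pres.hx) * Pres.ht ^ 2 = 1 := mk_extra (by simp [Cfsg.Spor.HN.extra])

theorem rel_ty : Pres.ht⁻¹ * Pres.hy⁻¹ * Pres.ht * Pres.hy = 1 := mk_extra (by simp [Cfsg.Spor.HN.extra])

theorem simple' : IsSimpleGroup Cfsg.Spor.HN := Cfsg.Agent.S1701.result.1

theorem rel_zt : (Pres.hz * Pres.hx ^ 2 * Pres.ht ^ 2) ^ 3 = 1 := by
  have := simple'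
  have hSS : Pres.hx ^ 2 * Pres.hx ^ 2 = 1 := by rw [← ψ_τ, ← map_mul, τ_mul_τ, map_one]
  have hZZ : Pres.hz * Pres.hz = 1 := by rw [← pow_two]; exact rels_HN.r7
  have hSZ : Pres.hz * Pres.hx ^ 2 = Pres.hx ^ 2 * Pres.hz := by
    rw [← ψ_τ, ← NormalH.ψ_gz, ← map_mul, ← map_mul, τ_comm]
  have hr := InvHN.r_τ
  rw [r_eq, ψ_τ, NormalH.ψ_gz] at hr
  have hx1 : Pres.hx⁻¹ * Pres.ht * Pres.hx = (Pres.ht ^ 2)⁻¹ := mul_eq_one_iff_eq_inv.1 rel_tx
  have hx2 : (Pres.hx ^ 2)⁻¹ * Pres.ht * Pres.hx ^ 2 = Pres.ht ^ 4 := by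
    calc (Pres.hx ^ 2)⁻¹ * Pres.ht * Pres.hx ^ 2 = Pres.hx⁻¹ * (Pres.hx⁻¹ * Pres.ht * Pres.hx) * Pres.hx := by
          rw [pow_two]; group
      _ = Pres.hx⁻¹ * (Pres.ht ^ 2)⁻¹ * Pres.hx := by rw [hx1]
      _ = ((Pres.hx⁻¹ * Pres.ht * Pres.hx) ^ 2)⁻¹ := by rw [pow_two, pow_two]; group
      _ = (((Pres.ht ^ 2)⁻¹) ^ 2)⁻¹ := by rw [hx1]
      _ = Pres.ht ^ 4 := by group
  have h4 : Pres.ht ^ 4 = Pres.ht⁻¹ := by
    rw [eq_inv_iff_mul_eq_one, ← pow_succ]; exact rel_t5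
  have hST : Pres.ht * Pres.hx ^ 2 = Pres.hx ^ 2 * Pres.ht⁻¹ := by
    rw [← h4, ← hx2]; group
  have := cube hSS hZZ hSZ hST hr
  rwa [← pow_two] at this

theorem rels : Rels Pres.hx Pres.hy (Pres.hz * Pres.hx ^ 2) := by
  have h := FusionOut.map_rels (NormalH.ψ.comp twist) rels_H0
  rwa [MonoidHom.comp_apply, MonoidHom.comp_apply, MonoidHom.comp_apply, twist_gx, twist_gy, twist_gz, map_mul,
    NormalH.ψ_gx, NormalH.ψ_gy, NormalH.ψ_gz, ψ_τ] at h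

theorem exists_end : ∃ θ : Cfsg.Spor.HN →* Cfsg.Spor.HN, θ Pres.hx = Pres.hx ∧ θ Pres.hy = Pres.hy ∧
    θ Pres.hz = Pres.hz * Pres.hx ^ 2 ∧ θ Pres.ht = Pres.ht ^ 2 := by
  have hx1 : Pres.hx⁻¹ * Pres.ht * Pres.hx = (Pres.ht ^ 2)⁻¹ := mul_eq_one_iff_eq_inv.1 rel_tx
  refine Hom.exists_hom rels ?_ ?_ ?_ rel_zt
  · rw [← pow_mul, mul_comm 2 5, pow_mul, rel_t5, one_pow]
  · calc Pres.hx⁻¹ * Pres.ht ^ 2 * Pres.hx * (Pres.ht ^ 2) ^ 2
        = (Pres.hx⁻¹ * Pres.ht * Pres.hx) ^ 2 * (Pres.ht ^ 2) ^ 2 := by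
          congr 1
          rw [pow_two (Pres.hx⁻¹ * Pres.ht * Pres.hx), pow_two Pres.ht]
          simp only [mul_assoc, mul_inv_cancel_left]
      _ = ((Pres.ht ^ 2)⁻¹) ^ 2 * (Pres.ht ^ 2) ^ 2 := by rw [hx1]
      _ = 1 := by group
  · have h1 : Pres.ht * Pres.hy = Pres.hy * Pres.ht := by
      calc Pres.ht * Pres.hy = Pres.hy * Pres.ht * (Pres.ht⁻¹ * Pres.hy⁻¹ * Pres.ht * Pres.hy) := by group
        _ = Pres.hy * Pres.ht := by rw [rel_ty, mul_one]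
    have h2 : Commute (Pres.ht ^ 2) Pres.hy := Commute.pow_left h1 2
    calc (Pres.ht ^ 2)⁻¹ * Pres.hy⁻¹ * Pres.ht ^ 2 * Pres.hy = (Pres.ht ^ 2)⁻¹ * Pres.hy⁻¹ * (Pres.ht ^ 2 * Pres.hy) := by
          group
      _ = (Pres.ht ^ 2)⁻¹ * Pres.hy⁻¹ * (Pres.hy * Pres.ht ^ 2) := by rw [h2.eq]
      _ = 1 := by group

theorem exists_outer : ∃ α : MulAut Cfsg.Spor.HN, ∀ g : Cfsg.Spor.HN, α ≠ MulAut.conj g := by
  have hs := simple'
  have hfin := KFacts.HN.finite_HN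
  obtain ⟨θ, hx, hy, hz, -⟩ := exists_end
  have hx2 : Pres.hx ^ 2 ≠ 1 := by
    rw [← ψ_τ]
    intro h
    exact KFacts.HN.emb.ne (KFacts.HN.emb.inj (h.trans (map_one _).symm))
  have hinj : Function.Injective θ := by
    rw [← MonoidHom.ker_eq_bot_iff]
    rcases IsSimpleGroup.eq_bot_or_eq_top_of_normal θ.ker inferInstance with h | h
    · exact h
    · exfalso
      have h1 : Pres.hx ∈ θ.ker := by rw [h]; exact Subgroup.mem_top _
      rw [MonoidHom.mem_ker, hx] at h1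
      exact hx2 (by rw [h1, one_pow])
  refine ⟨MulEquiv.ofBijective θ (Finite.injective_iff_bijective.1 hinj), ?_⟩
  intro g hg
  have happ : ∀ u : Cfsg.Spor.HN, θ u = g * u * g⁻¹ := fun u =>
    congrArg (fun β : MulAut Cfsg.Spor.HN => β u) hg
  have hcomp : θ.comp NormalH.ψ = NormalH.ψ.comp twist := by
    refine MonoidHom.eq_of_eqOn_dense closure_gens ?_
    rintro h (rfl | rfl | rfl)
    · rw [MonoidHom.comp_apply, MonoidHom.comp_apply, twist_gx, NormalH.ψ_gx, hx]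
    · rw [MonoidHom.comp_apply, MonoidHom.comp_apply, twist_gy, NormalH.ψ_gy, hy]
    · rw [MonoidHom.comp_apply, MonoidHom.comp_apply, twist_gz, map_mul, NormalH.ψ_gz, ψ_τ, hz]
  have hc : ∀ u : Cfsg.Spor.HN, θ u = u → g * u = u * g := by
    intro u hu
    rw [happ] at hu
    exact mul_inv_eq_iff_eq_mul.1 hu
  have hgτ : g * NormalH.ψ τ = NormalH.ψ τ * g := by
    apply hc
    rw [ψ_τ, map_pow, hx]
  obtain ⟨h, rfl⟩ := KFacts.HN.emb.cent g hgτ
  have hK : ∀ k ∈ K, h * k = k * h := by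
    intro k hk
    apply KFacts.HN.emb.inj
    rw [map_mul, map_mul]
    apply hc
    have h1 := congrArg (fun f : H0 →* Cfsg.Spor.HN => f k) hcomp
    simp only [MonoidHom.comp_apply] at h1
    rw [h1, twist_of_mem hk]
  have hz' : θ Pres.hz = Pres.hz := by
    rw [happ, mul_inv_eq_iff_eq_mul, ← NormalH.ψ_gz, ← map_mul, ← map_mul]
    rcases StepFive.eq_of_comm_K hK with rfl | rfl
    · rw [one_mul, mul_one]
    · rw [τ_comm]
  rw [hz] at hz'
  exact hx2 (mul_eq_left.1 hz')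

end Cfsg.Agent.H997.OutHN
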