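import Cfsg.Agent.KFacts.ON.Aut

/-!
# The automorphism of the second tuple of the O'Nan group is outer (helper997)
-/

set_option autoImplicit false

namespace Cfsg.Agent.H997.OutON

open Cfsg.Spor (ON)
open Cfsg.Agent.KFacts.ON.Aut Cfsg.Agent.KFacts.ON.Words Cfsg.Agent.KFacts.ON.Struct Cfsg.Agent.KFacts.ON.Qs
  Cfsg.Agent.KFacts.ON.Estar

theorem E0_outer (k : ON) : E0 ≠ MulAut.conj k := by
  intro hk
  have h1 : ∀ {y : ON}, E0 y = y → k * y = y * k := by
    intro y hy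
    rw [hk, MulAut.conj_apply] at hy
    exact mul_inv_eq_iff_eq_mul.1 hy
  have hkv := cent_abc (h1 E0_f) (h1 E0_a) (h1 E0_b) (h1 E0_c)
  apply E0_dg
  rw [hk, MulAut.conj_apply, ← zv_comm hkv dgJ, mul_inv_cancel_right]

end Cfsg.Agent.H997.OutON
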