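import Cfsg.Agent.H331.SCMain
import Cfsg.Agent.TwoFusion.GoldLambda
import Cfsg.Agent.TwoFusion.GoldBenPack
import Cfsg.Agent.PLocal.ZJElem
import Cfsg.Agent.S1169
import Cfsg.Agent.StrongEmb.Main

/-!
# Odd groups centralizing a strongly closed abelian subgroup: products of exceptional groups

`Prd A L` (`H331.SCMain`) is the conclusion of S1252: `⟨A^Q⟩` is the product of the `L i`, each of them `U₃(2^n)` or a
Suzuki group. If `A` is abelian and `Y` is an odd order subgroup normalized by a Sylow 2-subgroup containing `A` and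
centralizing `A`, then `Y` centralizes `⟨A^Q⟩` (`centralizes`).
-/

set_option autoImplicit false

namespace Cfsg.Agent.H997.ScPairExc

open Cfsg Subgroup
open Cfsg.Agent.H331.SCBasic Cfsg.Agent.H331.SCExc Cfsg.Agent.H331.SCMain
open Cfsg.Agent.TwoFusion

universe u

variable {Q : Type u} [Group Q] [Finite Q]

/-- A Sylow subgroup meets a two-step subnormal subgroup in a Sylow subgroup. -/
theorem exists_sylow_two {p : ℕ} [Fact p.Prime] (S : Sylow p Q) {K L : Subgroup Q} [K.Normal] (hLK : L ≤ K)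
    (hn : K ≤ normalizer (L : Set Q)) : ∃ T : Sylow p L, (T : Subgroup L).map L.subtype = (S : Subgroup Q) ⊓ L := by
  obtain ⟨T, hT⟩ := Cfsg.Agent.PLocal.ZJElem.exists_sylow_subgroupOf S K
  have hN : (L.subgroupOf K).Normal := normal_subgroupOf_of_le_normalizer hn
  obtain ⟨T', hT'⟩ := Cfsg.Agent.PLocal.ZJElem.exists_sylow_subgroupOf T (L.subgroupOf K)
  let e : L.subgroupOf K ≃* L := subgroupOfEquivOfLe hLK
  refine ⟨T'.mapSurjective (f := e.toMonoidHom) e.surjective, ?_⟩
  have h1 : ((T'.mapSurjective (f := e.toMonoidHom) e.surjective : Sylow p L) : Subgroup L) =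
      (T' : Subgroup (L.subgroupOf K)).map e.toMonoidHom := rfl
  rw [h1, Subgroup.map_map]
  have h2 : L.subtype.comp e.toMonoidHom = K.subtype.comp (L.subgroupOf K).subtype := by
    ext x
    rfl
  rw [h2, ← Subgroup.map_map, hT']
  ext x
  constructor
  · rintro ⟨y, ⟨hy1, hy2⟩, rfl⟩
    have h3 : (y : Q) ∈ (T : Subgroup K).map K.subtype := ⟨y, hy1, rfl⟩
    rw [hT] at h3
    exact ⟨h3.1, hy2⟩
  · rintro ⟨hx1, hx2⟩
    have h3 : x ∈ (T : Subgroup K).map K.subtype := by
      rw [hT]; exact ⟨hx1, hLK hx2⟩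
    obtain ⟨y, hy, rfl⟩ := h3
    exact ⟨y, ⟨hy, hx2⟩, rfl⟩

section

variable {A : Subgroup Q} {r : ℕ} {L : Fin r → Subgroup Q} (D : Prd A L) (S : Sylow 2 Q)
  (hA : IsStronglyClosed A (S : Subgroup Q)) (hab : ∀ a ∈ A, ∀ b ∈ A, a * b = b * a)

include D hA hab

theorem sePack (i : Fin r) : ∃ T : Sylow 2 (L i), (T : Subgroup (L i)).map (L i).subtype = (S : Subgroup Q) ⊓ L i ∧
    GoldLambda.SEPack (L i) := by
  have : Fact (Nat.Prime 2) := ⟨Nat.prime_two⟩
  have : IsSimpleGroup (L i) := D.simple i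
  obtain ⟨T, hT⟩ := exists_sylow_two S (D.le_sup i) (D.le_norm i)
  refine ⟨T, hT, ?_⟩
  have hTm : ∀ x : L i, x ∈ (T : Subgroup (L i)) ↔ (x : Q) ∈ (S : Subgroup Q) := by
    intro x
    constructor
    · intro hx
      have h1 : (x : Q) ∈ (T : Subgroup (L i)).map (L i).subtype := ⟨x, hx, rfl⟩
      rw [hT] at h1
      exact h1.1
    · intro hx
      have h1 : (x : Q) ∈ (T : Subgroup (L i)).map (L i).subtype := by rw [hT]; exact ⟨hx, x.2⟩
      obtain ⟨y, hy, hyx⟩ := h1
      rwa [← Subtype.ext hyx]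
  have hsc : IsStronglyClosed (A.subgroupOf (L i)) (T : Subgroup (L i)) := by
    refine ⟨fun x hx => (hTm x).2 (hA.1 hx), fun x hx g hg => ?_⟩
    exact hA.2 x hx g ((hTm _).1 hg)
  obtain ⟨x, hx, -, -, -, hx1, -⟩ := D.exists_two i
  have hne : A.subgroupOf (L i) ≠ ⊥ := by
    intro h
    have h1 : (⟨x, hx.2⟩ : L i) ∈ A.subgroupOf (L i) := hx.1
    rw [h, mem_bot] at h1
    exact hx1 (congrArg Subtype.val h1)
  have hc : IsMulCommutative (A.subgroupOf (L i)) :=
    ⟨⟨fun a b => Subtype.ext (Subtype.ext (hab _ a.2 _ b.2))⟩⟩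
  have hnc : ∃ a b : L i, a * b ≠ b * a := by
    by_contra hcon
    push Not at hcon
    exact D.not_comm i hcon
  rcases Cfsg.Agent.S1169.result T _ hne hc hsc with h | h
  · exfalso
    obtain ⟨a, b, hab⟩ := (D.sl i T).nab
    exact hab (h.is_comm.comm a b)
  · exact GoldBenPack.sePack_of_bender (Cfsg.Agent.StrongEmb.Main.bender (L i)) (D.simple i) hnc h

omit hA hab in
/-- An element centralizing a nontrivial element of `L i` normalizes `L i`. -/
theorem mem_norm (i : Fin r) {y b : Q} (hb : b ∈ L i) (hb1 : b ≠ 1) (hyb : y * b * y⁻¹ = b) :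
    y ∈ normalizer (L i : Set Q) := by
  have : IsSimpleGroup (L i) := D.simple i
  set K := normalClosure (A : Set Q) with hK
  have hle : ∀ k ∈ K, ∀ x ∈ L i, k * x * k⁻¹ ∈ L i := fun k hk x hx =>
    (mem_normalizer_iff.1 (D.le_norm i hk) x).1 hx
  -- `M`: the intersection of `L i` with its conjugate
  let M : Subgroup (L i) := ((L i).comap (MulAut.conj y).toMonoidHom).subgroupOf (L i)
  have hM : ∀ x : L i, x ∈ M ↔ y * x * y⁻¹ ∈ L i := fun x => Iff.rfl
  have hMn : M.Normal := by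
    refine ⟨fun x hx g => ?_⟩
    rw [hM] at hx ⊢
    have h1 : y * (g * x * g⁻¹ : L i) * y⁻¹ = (y * g * y⁻¹) * (y * x * y⁻¹) * (y * g * y⁻¹)⁻¹ := by
      push_cast; group
    rw [h1]
    refine hle _ ?_ _ hx
    exact (inferInstance : K.Normal).conj_mem _ (D.le_sup i g.2) y
  have hne : M ≠ ⊥ := by
    intro h
    have h1 : (⟨b, hb⟩ : L i) ∈ M := by
      rw [hM]
      show y * b * y⁻¹ ∈ L i
      rw [hyb]; exact hb
    rw [h, mem_bot] at h1
    exact hb1 (congrArg Subtype.val h1)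
  have htop : M = ⊤ := (hMn.eq_bot_or_eq_top).resolve_left hne
  refine mem_normalizer_of_conj fun x hx => ?_
  have h1 : (⟨x, hx⟩ : L i) ∈ M := by rw [htop]; exact mem_top _
  exact h1

/-- **The odd group centralizes the product of exceptional groups.** -/
theorem centralizes (Y : Subgroup Q) (hY : Odd (Nat.card Y)) (hYS : ∀ t ∈ (S : Subgroup Q), ∀ y ∈ Y, t * y * t⁻¹ ∈ Y)
    (hYA : ∀ y ∈ Y, ∀ a ∈ A, y * a = a * y) : ∀ y ∈ Y, ∀ k ∈ normalClosure (A : Set Q), y * k = k * y := by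
  have key : ∀ i, ∀ y ∈ Y, ∀ x ∈ L i, y * x = x * y := by
    intro i
    obtain ⟨T, hT, hp⟩ := sePack D S hA hab i
    obtain ⟨b, hb, -, -, -, hb1, -⟩ := D.exists_two i
    have hYN : Y ≤ normalizer (L i : Set Q) := by
      intro y hy
      refine mem_norm D i hb.2 hb1 ?_
      rw [hYA y hy b hb.1, mul_inv_cancel_right]
    let ρ : normalizer (L i : Set Q) →* MulAut (L i) := (L i).normalizerMonoidHom
    have hρ : ∀ (n : normalizer (L i : Set Q)) (x : L i), ((ρ n x : L i) : Q) = n * x * (n : Q)⁻¹ := fun n x => rfl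
    have hnc : ∃ a b : L i, a * b ≠ b * a := by
      by_contra hcon
      push Not at hcon
      exact D.not_comm i hcon
    have hbS : (⟨b, hb.2⟩ : L i) ∈ T := by
      have h1 : b ∈ (T : Subgroup (L i)).map (L i).subtype := by rw [hT]; exact ⟨hA.1 hb.1, hb.2⟩
      obtain ⟨c, hc, hcb⟩ := h1
      have h2 : c = ⟨b, hb.2⟩ := Subtype.ext hcb
      rw [← h2]; exact hc
    have hcard : Odd (Nat.card ((Y.subgroupOf (normalizer (L i : Set Q))).map ρ)) := by
      have e1 : Nat.card (Y.subgroupOf (normalizer (L i : Set Q))) = Nat.card Y :=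
        Nat.card_congr (subgroupOfEquivOfLe hYN).toEquiv
      rw [← e1] at hY
      exact Odd.of_dvd_nat hY (card_dvd_of_surjective (ρ.subgroupMap _) (ρ.subgroupMap_surjective _))
    have h1 := GoldLambda.eq_one_of_fix (D.simple i) hnc hp T hbS (fun h => hb1 (congrArg Subtype.val h))
      ((Y.subgroupOf (normalizer (L i : Set Q))).map ρ) ?_ ?_ ?_
    · intro y hy x hx
      have h2 := h1 (ρ ⟨y, hYN hy⟩) ⟨_, hy, rfl⟩
      have h3 := congrArg Subtype.val (DFunLike.congr_fun h2 (⟨x, hx⟩ : L i))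
      rw [hρ] at h3
      have h4 : y * x * y⁻¹ = x := h3
      exact mul_inv_eq_iff_eq_mul.1 h4
    · exact hcard
    · rintro _ ⟨y, hy, rfl⟩
      apply Subtype.ext
      rw [hρ]
      show (y : Q) * b * (y : Q)⁻¹ = b
      rw [hYA y hy b hb.1, mul_inv_cancel_right]
    · rintro t ht _ ⟨y, hy, rfl⟩
      have htS : (t : Q) ∈ (S : Subgroup Q) := by
        have h2 : (t : Q) ∈ (T : Subgroup (L i)).map (L i).subtype := ⟨t, ht, rfl⟩
        rw [hT] at h2
        exact h2.1
      have htN : (t : Q) ∈ normalizer (L i : Set Q) := le_normalizer t.2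
      refine ⟨⟨t, htN⟩ * y * ⟨t, htN⟩⁻¹, ?_, ?_⟩
      · exact hYS t htS y hy
      · rw [map_mul, map_mul, map_inv]
        have h2 : ρ ⟨t, htN⟩ = MulAut.conj t := by
          ext x
          rw [hρ]; rfl
        rw [h2]
  intro y hy k hk
  rw [← D.sup] at hk
  have h1 : (⨆ i, L i) ≤ centralizer ({y} : Set Q) := by
    refine iSup_le fun i x hx => ?_
    rw [mem_centralizer_singleton_iff]
    exact (key i y hy x hx).symm
  have h2 := h1 hk
  rw [mem_centralizer_singleton_iff] at h2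
  exact h2.symm

end

end Cfsg.Agent.H997.ScPairExc
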