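import Cfsg.Agent.H997.ScPairExc
import Cfsg.Agent.H997.ScPairCen
import Cfsg.Agent.TwoFusion.LargestSylowNormal
import Cfsg.Agent.TwoFusion.ClosedCommutator
import Cfsg.Agent.S1250

/-!
# The commutator of the normal closures of two commuting strongly closed 2-subgroups

`S₁`, `S₂` strongly closed in the Sylow 2-subgroup `S` of `G`, commuting elementwise. Then
`[⟨S₁^G⟩, ⟨S₂^G⟩] ≤ ⟨(S₁ ∩ S₂)^G⟩ O(G)` (`main`), from the case `S₁ ∩ S₂ = 1` (`ClosedCommutator.commutator_le`) and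
S1252 (`F1252`).

Proof for `O(G) = 1`: put `D = S₁ ∩ S₂` (abelian, strongly closed), `K = ⟨D^G⟩`, `H = N_G(D)`, `U_j = ⟨S_j^H⟩`. Then
`G = K H`, and `W = [U₁, U₂] ≤ D × X` with `X` of odd order, normal in `H`, by the disjoint case in `H / D`. By `star`,
`[X, S_j]` centralizes `K`, so it is trivial, since `C_X(K)` is normal in `G = K H`. So `W` is centralized by `U₁`, hence
`[t, u] ∈ W` has 2-power order for `t ∈ S₁`, `u ∈ U₂`, so it lies in `D`.
-/

set_option autoImplicit false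

namespace Cfsg.Agent.H997.ScPairMain

open Cfsg Subgroup
open Cfsg.Agent.H331.SCBasic Cfsg.Agent.H331.SCMain
open Cfsg.Agent.TwoFusion.LargestSylowNormal
open scoped commutatorElement

universe u

/-- S1252 -/
def F1252 : Prop :=
  ∀ (X : Type u) [Group X] [Finite X] (S : Sylow 2 X) (A : Subgroup X), IsStronglyClosed A (S : Subgroup X) →
    Even (A.relIndex (normalClosure (A : Set X))) →
    (∀ N : Subgroup X, N.Normal → N ≠ ⊥ → Even ((A ⊓ N).relIndex N)) →
    ∃ (r : ℕ) (L : Fin r → Subgroup X), Prd A L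

theorem odd_map {G H : Type*} [Group G] [Group H] {X : Subgroup G} (f : G →* H) (h : Odd (Nat.card X)) :
    Odd (Nat.card (X.map f)) :=
  Odd.of_dvd_nat h (card_dvd_of_surjective (f.subgroupMap X) (f.subgroupMap_surjective X))

theorem orderOf_conj {G : Type*} [Group G] (g x : G) : orderOf (g * x * g⁻¹) = orderOf x := by
  have := (MulAut.conj g).orderOf_eq x
  rwa [MulAut.conj_apply] at this

section

variable {G : Type u} [Group G] [Finite G]

theorem core_bot (hO : ∀ N : Subgroup G, N.Normal → Odd (Nat.card N) → N = ⊥) (M : Subgroup G) [hM : M.Normal] :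
    ∀ N : Subgroup M, N.Normal → Odd (Nat.card N) → N = ⊥ := by
  intro N hN hodd
  have h1 : N ≤ pPrimeCore 2 M := Cfsg.Agent.Lib.Cores.le_pPrimeCore hN (Nat.coprime_two_right.2 hodd)
  have h2 := Cfsg.Agent.Lib.Cores.map_subtype_pPrimeCore 2 hM
  have h3 : pPrimeCore 2 G = ⊥ := hO _ inferInstance
    (Nat.coprime_two_right.1 (Cfsg.Agent.Lib.Cores.pPrimeCore_coprime 2))
  rw [h3, inf_bot_eq] at h2
  have h4 : pPrimeCore 2 M = ⊥ := (Subgroup.map_eq_bot_iff_of_injective _ M.subtype_injective).1 h2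
  rw [eq_bot_iff, ← h4]
  exact h1

variable (hF : F1252.{u}) (hO : ∀ N : Subgroup G, N.Normal → Odd (Nat.card N) → N = ⊥)
  (S : Sylow 2 G) (D : Subgroup G) (hD : IsStronglyClosed D (S : Subgroup G)) (hab : ∀ a ∈ D, ∀ b ∈ D, a * b = b * a)
  (X : Subgroup G) (hX : Odd (Nat.card X)) (hXN : ∀ n ∈ normalizer (D : Set G), ∀ x ∈ X, n * x * n⁻¹ ∈ X)
  (hXD : ∀ x ∈ X, ∀ d ∈ D, x * d = d * x)

include hD in
omit [Finite G] in
theorem le_norm [Finite G] : (S : Subgroup G) ≤ normalizer (D : Set G) := fun s hs =>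
  mem_normalizer_of_conj fun d hd => hD.2 d hd s (mul_mem (mul_mem hs (hD.1 hd)) (inv_mem hs))

include hF hD hab hX hXN hXD in
/-- Step A: `X` centralizes `⟨D^G⟩` modulo a normal subgroup `M` such that `D ∩ M` is a Sylow 2-subgroup of `M`. -/
theorem exists_mod : ∃ M : Subgroup G, M.Normal ∧ Odd (D.relIndex M) ∧
    ∀ x ∈ X, ∀ k ∈ normalClosure (D : Set G), k * x * k⁻¹ * x⁻¹ ∈ M := by
  obtain ⟨N₀, hN₀n, hodd, hmax⟩ := exists_largest D
  refine ⟨N₀, hN₀n, hodd, ?_⟩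
  by_cases hAN : D ≤ N₀
  · intro x _ k hk
    have h1 : k ∈ N₀ := (normalClosure_le_normal (by exact hAN)) hk
    have h2 : x * k⁻¹ * x⁻¹ ∈ N₀ := hN₀n.conj_mem _ (inv_mem h1) x
    have h3 : k * x * k⁻¹ * x⁻¹ = k * (x * k⁻¹ * x⁻¹) := by group
    rw [h3]
    exact mul_mem h1 h2
  · set π := QuotientGroup.mk' N₀ with hπ
    have hsurj : Function.Surjective π := QuotientGroup.mk'_surjective N₀
    have hclmap : (normalClosure (D : Set G)).map π =
        normalClosure ((D.map π : Subgroup (G ⧸ N₀)) : Set (G ⧸ N₀)) := by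
      rw [Subgroup.map_normalClosure _ _ hsurj, Subgroup.coe_map]
    let S' : Sylow 2 (G ⧸ N₀) := S.mapSurjective hsurj
    have hS' : (S' : Subgroup (G ⧸ N₀)) = (S : Subgroup G).map π := rfl
    have hA' : IsStronglyClosed (D.map π) (S' : Subgroup (G ⧸ N₀)) := by
      rw [hS']
      have : Fact (Nat.Prime 2) := ⟨Nat.prime_two⟩
      exact Cfsg.Agent.S1250.result S D hD N₀
    have hev : ∀ M : Subgroup (G ⧸ N₀), M.Normal → M ≠ ⊥ → Even ((D.map π).relIndex M) := by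
      intro M hM hM1
      exact even_relIndex_quotient D hodd hmax M hM hM1
    have hne : normalClosure ((D.map π : Subgroup (G ⧸ N₀)) : Set (G ⧸ N₀)) ≠ ⊥ := by
      intro h
      refine hAN ?_
      have : D.map π ≤ ⊥ := by rw [← h]; exact subset_normalClosure
      rw [le_bot_iff, Subgroup.map_eq_bot_iff, hπ, QuotientGroup.ker_mk'] at this
      exact this
    obtain ⟨r, L, hP⟩ := hF (G ⧸ N₀) S' (D.map π) hA' (hev _ inferInstance hne)
      (fun M hM hM1 => by rw [inf_relIndex_right]; exact hev M hM hM1)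
    have h1 := ScPairExc.centralizes hP S' hA'
      (by
        rintro _ ⟨a, ha, rfl⟩ _ ⟨b, hb, rfl⟩
        rw [← map_mul, ← map_mul, hab a ha b hb])
      (X.map π) (odd_map π hX)
      (by
        rintro _ ⟨t, ht, rfl⟩ _ ⟨x, hx, rfl⟩
        exact ⟨t * x * t⁻¹, hXN t (le_norm S D hD ht) x hx, by simp⟩)
      (by
        rintro _ ⟨x, hx, rfl⟩ _ ⟨d, hd, rfl⟩
        rw [← map_mul, ← map_mul, hXD x hx d hd])
    intro x hx k hk
    have h2 := h1 (π x) ⟨x, hx, rfl⟩ (π k) (by rw [← hclmap]; exact ⟨k, hk, rfl⟩)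
    rw [← QuotientGroup.ker_mk' N₀, MonoidHom.mem_ker, ← hπ]
    simp only [map_mul, map_inv]
    rw [← h2]; group

include hF hO hD hab hX hXN hXD in
/-- **(★)**: `[x, s]` centralizes `⟨D^G⟩`. -/
theorem star {x s : G} (hx : x ∈ X) {n : ℕ} (hs : s ^ 2 ^ n = 1) (hsD : ∀ d ∈ D, s * d = d * s) :
    x * s * x⁻¹ * s⁻¹ ∈ X ∧ ∀ k ∈ normalClosure (D : Set G), (x * s * x⁻¹ * s⁻¹) * k = k * (x * s * x⁻¹ * s⁻¹) := by
  obtain ⟨M, hM, hodd, hmod⟩ := exists_mod hF S D hD hab X hX hXN hXD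
  set c := x * s * x⁻¹ * s⁻¹ with hc
  have hsN : s ∈ normalizer (D : Set G) := mem_normalizer_of_conj fun d hd => by
    rw [hsD d hd, mul_inv_cancel_right]; exact hd
  have hcX : c ∈ X := by
    have h1 : c = x * (s * x⁻¹ * s⁻¹) := by rw [hc]; group
    rw [h1]
    exact mul_mem hx (hXN s hsN _ (inv_mem hx))
  refine ⟨hcX, ?_⟩
  have hOM := core_bot hO M
  have hD2 : IsPGroup 2 D := S.2.to_le hD.1
  have hcodd : Odd (orderOf c) := Odd.of_dvd_nat hX (Subgroup.orderOf_dvd_natCard X hcX)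
  have hcM : ∀ m ∈ M, c * m = m * c := by
    refine ScPairCen.centralizes M hOM (D ⊓ M) inf_le_right (hD2.to_le inf_le_left) ?_ ?_ hs ?_ ?_ hc hcodd
    · rw [inf_relIndex_right]; exact hodd
    · exact fun a ha b hb => hab a ha.1 b hb.1
    · exact fun p hp => hsD p hp.1
    · exact fun p hp => hXD x hx p hp.1
  intro k hk
  have hu := hmod c hcX k hk
  set u := k * c * k⁻¹ * c⁻¹ with hu'
  have hkM : ∀ m ∈ M, (k * c * k⁻¹) * m = m * (k * c * k⁻¹) := by
    intro m hm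
    have h1 := hcM (k⁻¹ * m * k⁻¹⁻¹) (hM.conj_mem m hm k⁻¹)
    calc (k * c * k⁻¹) * m = k * (c * (k⁻¹ * m * k⁻¹⁻¹)) * k⁻¹ := by group
      _ = k * ((k⁻¹ * m * k⁻¹⁻¹) * c) * k⁻¹ := by rw [h1]
      _ = m * (k * c * k⁻¹) := by group
  have huM : (⟨u, hu⟩ : M) ∈ center M := by
    rw [mem_center_iff]
    rintro ⟨m, hm⟩
    apply Subtype.ext
    show m * u = u * m
    have c1 : Commute (k * c * k⁻¹) m := hkM m hm
    have c2 : Commute c m := hcM m hm
    exact (c1.mul_left c2.inv_left).symm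
  obtain ⟨j, hj⟩ := ScPairCen.pow_of_central hOM huM
  have hj' : u ^ 2 ^ j = 1 := congrArg Subtype.val hj
  have hcu : Commute u c := (hcM u hu).symm
  have h3 : k * c * k⁻¹ = u * c := by rw [hu']; group
  have h4 : (k * c * k⁻¹) ^ orderOf c = 1 := by rw [conj_pow, pow_orderOf_eq_one, mul_one, mul_inv_cancel]
  rw [h3, hcu.mul_pow, pow_orderOf_eq_one, mul_one] at h4
  have h5 : u = 1 := ScPairCen.eq_one_of_odd hj' hcodd h4
  rw [h5, one_mul, mul_inv_eq_iff_eq_mul] at h3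
  exact h3.symm

end

section

variable {G : Type u} [Group G] [Finite G]

/-- The Frattini argument. -/
theorem sup_eq_top (S : Sylow 2 G) (D : Subgroup G) (hD : IsStronglyClosed D (S : Subgroup G)) (K : Subgroup G)
    [K.Normal] (hDK : D ≤ K) : normalizer (D : Set G) ⊔ K = ⊤ := by
  have : Fact (Nat.Prime 2) := ⟨Nat.prime_two⟩
  obtain ⟨T, hT⟩ := Cfsg.Agent.PLocal.ZJElem.exists_sylow_subgroupOf S K
  have h1 := Sylow.normalizer_sup_eq_top T
  rw [eq_top_iff, ← h1]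
  refine sup_le_sup_right ?_ K
  intro n hn
  refine mem_normalizer_of_conj fun d hd => ?_
  refine hD.2 d hd n ?_
  have h2 : d ∈ (T : Subgroup K).map K.subtype := by rw [hT]; exact ⟨hD.1 hd, hDK hd⟩
  have h3 : n * d * n⁻¹ ∈ (T : Subgroup K).map K.subtype := (mem_normalizer_iff.1 hn d).1 h2
  rw [hT] at h3
  exact h3.1

/-- **The theorem for `O(G) = 1`.** -/
theorem core_free (hF : F1252.{u}) (hO : ∀ N : Subgroup G, N.Normal → Odd (Nat.card N) → N = ⊥)
    (S : Sylow 2 G) (S₁ S₂ : Subgroup G) (h₁ : IsStronglyClosed S₁ (S : Subgroup G))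
    (h₂ : IsStronglyClosed S₂ (S : Subgroup G)) (hc : ∀ a ∈ S₁, ∀ b ∈ S₂, a * b = b * a) :
    ⁅normalClosure (S₁ : Set G), normalClosure (S₂ : Set G)⁆ ≤ normalClosure ((S₁ ⊓ S₂ : Subgroup G) : Set G) := by
  have h2 : Fact (Nat.Prime 2) := ⟨Nat.prime_two⟩
  set D : Subgroup G := S₁ ⊓ S₂ with hDdef
  set K := normalClosure (D : Set G) with hK
  have hD : IsStronglyClosed D (S : Subgroup G) :=
    ⟨fun x hx => h₁.1 hx.1, fun x hx g hg => ⟨h₁.2 x hx.1 g hg, h₂.2 x hx.2 g hg⟩⟩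
  have hab : ∀ a ∈ D, ∀ b ∈ D, a * b = b * a := fun a ha b hb => hc a ha.1 b hb.2
  have hDK : D ≤ K := subset_normalClosure
  have hD2 : IsPGroup 2 D := S.2.to_le hD.1
  set H := normalizer (D : Set G) with hH
  have hSH : (S : Subgroup G) ≤ H := le_norm S D hD
  let SH : Sylow 2 H := S.subtype hSH
  have hSHm : (SH : Subgroup H) = (S : Subgroup G).subgroupOf H := rfl
  set T₁ := S₁.subgroupOf H with hT₁
  set T₂ := S₂.subgroupOf H with hT₂
  set DH := D.subgroupOf H with hDH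
  have hDHn : DH.Normal := by
    refine ⟨fun x hx g => ?_⟩
    exact (mem_normalizer_iff.1 g.2 _).1 hx
  have hsc : ∀ (B : Subgroup G), IsStronglyClosed B (S : Subgroup G) →
      IsStronglyClosed (B.subgroupOf H) (SH : Subgroup H) := by
    intro B hB
    exact ⟨fun x hx => hB.1 hx, fun x hx g hg => hB.2 x hx g hg⟩
  set q := QuotientGroup.mk' DH with hq
  have hqs : Function.Surjective q := QuotientGroup.mk'_surjective DH
  let SQ : Sylow 2 (H ⧸ DH) := SH.mapSurjective hqs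
  have hsc₁ : IsStronglyClosed (T₁.map q) (SQ : Subgroup (H ⧸ DH)) := Cfsg.Agent.S1250.result SH T₁ (hsc S₁ h₁) DH
  have hsc₂ : IsStronglyClosed (T₂.map q) (SQ : Subgroup (H ⧸ DH)) := Cfsg.Agent.S1250.result SH T₂ (hsc S₂ h₂) DH
  have hdisj : T₁.map q ⊓ T₂.map q = ⊥ := by
    rw [eq_bot_iff]
    rintro _ ⟨⟨a, ha, rfl⟩, ⟨b, hb, hba⟩⟩
    have h3 : a⁻¹ * b ∈ DH := QuotientGroup.eq.1 hba.symm
    have h4 : (b : G) ∈ S₁ := by
      have h5 : (a : G)⁻¹ * b ∈ S₁ := (show (a : G)⁻¹ * b ∈ D from h3).1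
      have h6 := mul_mem (show (a : G) ∈ S₁ from ha) h5
      rwa [mul_inv_cancel_left] at h6
    rw [mem_bot, ← hba]
    exact (QuotientGroup.eq_one_iff b).2 (show (b : G) ∈ D from ⟨h4, hb⟩)
  have hcl := Cfsg.Agent.TwoFusion.ClosedCommutator.commutator_le SQ (T₁.map q) (T₂.map q) hdisj hsc₁ hsc₂
  set U₁ := normalClosure (T₁ : Set H) with hU₁
  set U₂ := normalClosure (T₂ : Set H) with hU₂
  have hUq₁ : U₁.map q = normalClosure ((T₁.map q : Subgroup (H ⧸ DH)) : Set (H ⧸ DH)) := by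
    rw [hU₁, Subgroup.map_normalClosure _ _ hqs, Subgroup.coe_map]
  have hUq₂ : U₂.map q = normalClosure ((T₂.map q : Subgroup (H ⧸ DH)) : Set (H ⧸ DH)) := by
    rw [hU₂, Subgroup.map_normalClosure _ _ hqs, Subgroup.coe_map]
  rw [← hUq₁, ← hUq₂] at hcl
  set O := oddCore (H ⧸ DH) with hOdef
  have hOn : O.Normal := Cfsg.Agent.Lib.Cores.pPrimeCore_normal 2
  have hOodd : Odd (Nat.card O) := Nat.coprime_two_right.1 (Cfsg.Agent.Lib.Cores.pPrimeCore_coprime 2)
  -- the group `R`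
  set C := centralizer (DH : Set H) with hC
  have hCn : C.Normal := inferInstance
  have hU₁C : U₁ ≤ C := normalClosure_le_normal (by
    intro t ht
    rw [SetLike.mem_coe, hC, mem_centralizer_iff]
    intro d hd
    exact Subtype.ext (hc t ht d (show (d : G) ∈ D from hd).2).symm)
  have hU₂C : U₂ ≤ C := normalClosure_le_normal (by
    intro t ht
    rw [SetLike.mem_coe, hC, mem_centralizer_iff]
    intro d hd
    exact Subtype.ext (hc d (show (d : G) ∈ D from hd).1 t ht))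
  set R := O.comap q ⊓ C with hR
  have hRn : R.Normal := inferInstance
  have hDR : DH ≤ R := by
    intro d hd
    refine mem_inf.2 ⟨?_, ?_⟩
    · rw [mem_comap]
      have h3 : q d = 1 := (QuotientGroup.eq_one_iff d).2 hd
      rw [h3]; exact one_mem _
    · rw [hC, mem_centralizer_iff]
      intro e he
      exact Subtype.ext (hab e he d hd)
  have hidx : Odd (DH.subgroupOf R).index := by
    have h3 : (DH.subgroupOf R).index = DH.relIndex R := rfl
    have h4 : DH = (⊥ : Subgroup (H ⧸ DH)).comap q := by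
      rw [MonoidHom.comap_bot, hq, QuotientGroup.ker_mk']
    have h5 : DH.relIndex R = Nat.card (R.map q) := by
      conv_lhs => rw [h4]
      rw [relIndex_comap, relIndex_bot_left]
    rw [h3, h5]
    refine Odd.of_dvd_nat hOodd (card_dvd_of_le ?_)
    rw [map_le_iff_le_comap]
    exact inf_le_left
  obtain ⟨X₀, hX₀, hX₀m, hdec⟩ := ScPairCen.odd_part (DH.subgroupOf R)
    (by
      rintro ⟨z, hzR⟩ hz
      rw [mem_center_iff]
      rintro ⟨g, hg⟩
      exact Subtype.ext (mem_centralizer_iff.1 hg.2 z hz).symm)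
    (by
      rintro ⟨⟨z, hzR⟩, hz⟩
      obtain ⟨k, hk⟩ := hD2 ⟨(z : G), hz⟩
      have hk' : (z : G) ^ 2 ^ k = 1 := congrArg Subtype.val hk
      refine ⟨k, ?_⟩
      apply Subtype.ext
      apply Subtype.ext
      apply Subtype.ext
      show (z : G) ^ 2 ^ k = 1
      exact hk') hidx
  set XH : Subgroup H := X₀.map R.subtype with hXH
  have hXHm : ∀ x : H, x ∈ XH ↔ x ∈ R ∧ Odd (orderOf x) := by
    intro x
    constructor
    · rintro ⟨y, hy, rfl⟩
      refine ⟨y.2, ?_⟩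
      show Odd (orderOf (y : H))
      rw [Subgroup.orderOf_coe]
      exact (hX₀m y).1 hy
    · rintro ⟨hx, hx'⟩
      refine ⟨⟨x, hx⟩, (hX₀m _).2 ?_, rfl⟩
      rwa [Subgroup.orderOf_mk]
  have hXHn : XH.Normal := by
    refine ⟨fun x hx g => ?_⟩
    rw [hXHm] at hx ⊢
    exact ⟨hRn.conj_mem x hx.1 g, by rw [orderOf_conj]; exact hx.2⟩
  set X : Subgroup G := XH.map H.subtype with hX
  have hXodd : Odd (Nat.card X) := odd_map _ (odd_map _ hX₀)
  have hXN : ∀ n ∈ H, ∀ x ∈ X, n * x * n⁻¹ ∈ X := by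
    rintro n hn _ ⟨x, hx, rfl⟩
    exact ⟨⟨n, hn⟩ * x * ⟨n, hn⟩⁻¹, hXHn.conj_mem x hx _, rfl⟩
  have hXD : ∀ x ∈ X, ∀ d ∈ D, x * d = d * x := by
    rintro _ ⟨x, hx, rfl⟩ d hd
    have h3 : x ∈ C := ((hXHm x).1 hx).1.2
    have hdH : d ∈ H := hSH (hD.1 hd)
    have h4 := mem_centralizer_iff.1 h3 ⟨d, hdH⟩ hd
    exact (congrArg Subtype.val h4).symm
  -- `C_X(K) = 1`
  have hXK : X ⊓ centralizer (K : Set G) = ⊥ := by
    refine hO _ ?_ (Odd.of_dvd_nat hXodd (card_dvd_of_le inf_le_left))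
    have hKn : K.Normal := inferInstance
    have h3 : H ⊔ K ≤ normalizer ((X ⊓ centralizer (K : Set G) : Subgroup G) : Set G) := by
      refine sup_le ?_ ?_
      · intro n hn
        refine mem_normalizer_of_conj fun x hx => ⟨hXN n hn x hx.1, ?_⟩
        exact (inferInstance : (centralizer (K : Set G)).Normal).conj_mem x hx.2 n
      · intro k hk
        refine mem_normalizer_of_conj fun x hx => ?_
        have h4 := mem_centralizer_iff.1 hx.2 k hk
        rw [h4, mul_inv_cancel_right]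
        exact hx
    rw [sup_eq_top S D hD K hDK, top_le_iff] at h3
    exact normalizer_eq_top_iff.1 h3
  have hstar : ∀ s ∈ S₁ ⊔ S₂, (∀ d ∈ D, s * d = d * s) → ∀ x ∈ X, x * s = s * x := by
    intro s hs hsD x hx
    have hsS : s ∈ (S : Subgroup G) := (sup_le h₁.1 h₂.1) hs
    obtain ⟨n, hn⟩ := S.2 ⟨s, hsS⟩
    have hn' : s ^ 2 ^ n = 1 := congrArg Subtype.val hn
    obtain ⟨h3, h4⟩ := star hF hO S D hD hab X hXodd hXN hXD hx hn' hsD
    have h5 : x * s * x⁻¹ * s⁻¹ ∈ X ⊓ centralizer (K : Set G) :=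
      ⟨h3, mem_centralizer_iff.2 fun k hk => (h4 k hk).symm⟩
    rw [hXK, mem_bot, mul_inv_eq_one, mul_inv_eq_iff_eq_mul] at h5
    exact h5
  -- `U₁` centralizes `R`
  have hU₁R : ∀ u ∈ U₁, ∀ r ∈ R, u * r = r * u := by
    have h3 : U₁ ≤ centralizer (XH : Set H) := normalClosure_le_normal (by
      intro t ht
      rw [SetLike.mem_coe, mem_centralizer_iff]
      intro x hx
      refine Subtype.ext (hstar t (mem_sup_left ht) (fun d hd => hc t ht d hd.2) x ⟨x, hx, rfl⟩))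
    intro u hu r hr
    obtain ⟨z, hz, x, hx, hr'⟩ := hdec ⟨r, hr⟩
    have h4 : r = z * x := congrArg Subtype.val hr'
    have c1 : Commute u (z : H) := (mem_centralizer_iff.1 (hU₁C hu) z hz).symm
    have c2 : Commute u (x : H) := (mem_centralizer_iff.1 (h3 hu) x ⟨x, hx, rfl⟩).symm
    rw [h4]
    exact c1.mul_right c2
  have hWR : ⁅U₁, U₂⁆ ≤ R := by
    refine le_inf ?_ ?_
    · rw [← map_le_iff_le_comap, Subgroup.map_commutator]
      exact hcl
    · exact (commutator_le_left U₁ U₂).trans hU₁C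
  -- `[t, u] ∈ D`
  have hkey : ∀ t ∈ T₁, ∀ u ∈ U₂, t * u * t⁻¹ * u⁻¹ ∈ DH := by
    intro t ht u hu
    have htU : t ∈ U₁ := subset_normalClosure ht
    have hw : t * u * t⁻¹ * u⁻¹ ∈ R := hWR (commutator_mem_commutator htU hu)
    set w := t * u * t⁻¹ * u⁻¹ with hwdef
    have hcw : Commute t⁻¹ w := (show Commute t w from hU₁R t htU w hw).inv_left
    have htS : (t : G) ∈ (S : Subgroup G) := h₁.1 ht
    obtain ⟨n, hn⟩ := S.2 ⟨(t : G), htS⟩
    have hnG : (t : G) ^ 2 ^ n = 1 := congrArg Subtype.val hn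
    have hn' : t ^ 2 ^ n = 1 := by
      apply Subtype.ext
      show (t : G) ^ 2 ^ n = 1
      exact hnG
    have h3 : u * t⁻¹ * u⁻¹ = t⁻¹ * w := by rw [hwdef]; group
    have h4 : (u * t⁻¹ * u⁻¹) ^ 2 ^ n = 1 := by rw [conj_pow, inv_pow, hn', inv_one, mul_one, mul_inv_cancel]
    rw [h3, hcw.mul_pow, inv_pow, hn', inv_one, one_mul] at h4
    have h5 : q w ∈ O := hw.1
    have h6 : q w = 1 := by
      refine ScPairCen.eq_one_of_odd (k := n) (by rw [← map_pow, h4, map_one]) hOodd ?_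
      exact pow_card_eq_one' (x := (⟨q w, h5⟩ : O)) |> congrArg Subtype.val
    exact (QuotientGroup.eq_one_iff w).1 h6
  -- the end
  have hKn : K.Normal := inferInstance
  set ρ := QuotientGroup.mk' K with hρ
  have hρs : Function.Surjective ρ := QuotientGroup.mk'_surjective K
  have h3 : ∀ s ∈ S₁, ∀ s' ∈ S₂, ∀ g : G, ρ s * ρ (g * s' * g⁻¹) = ρ (g * s' * g⁻¹) * ρ s := by
    intro s hs s' hs' g
    have hg : g ∈ H ⊔ K := by rw [sup_eq_top S D hD K hDK]; exact mem_top g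
    obtain ⟨h, hh, k, hk, rfl⟩ := mem_sup_of_normal_right.1 hg
    have hsH : s ∈ H := hSH (h₁.1 hs)
    have hsH' : s' ∈ H := hSH (h₂.1 hs')
    -- modulo `K`, `k` is trivial
    have h4 : ρ (h * k * s' * (h * k)⁻¹) = ρ (h * s' * h⁻¹) := by
      have h5 : ρ k = 1 := (QuotientGroup.eq_one_iff k).2 hk
      simp only [map_mul, map_inv, h5, mul_one]
    rw [h4]
    have h6 := hkey ⟨s, hsH⟩ hs (⟨h, hh⟩ * ⟨s', hsH'⟩ * ⟨h, hh⟩⁻¹)
      ((inferInstance : U₂.Normal).conj_mem _ (subset_normalClosure hs') _)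
    have h7 : s * (h * s' * h⁻¹) * s⁻¹ * (h * s' * h⁻¹)⁻¹ ∈ K := hDK h6
    have h8 : ρ (s * (h * s' * h⁻¹) * s⁻¹ * (h * s' * h⁻¹)⁻¹) = 1 := (QuotientGroup.eq_one_iff _).2 h7
    rw [map_mul, map_mul, map_mul, map_inv, map_inv, mul_inv_eq_one, mul_inv_eq_iff_eq_mul] at h8
    exact h8
  have h4 : (normalClosure (S₂ : Set G)).map ρ = normalClosure ((S₂.map ρ : Subgroup (G ⧸ K)) : Set (G ⧸ K)) := by
    rw [Subgroup.map_normalClosure _ _ hρs, Subgroup.coe_map]
  have h5 : (normalClosure (S₁ : Set G)).map ρ = normalClosure ((S₁.map ρ : Subgroup (G ⧸ K)) : Set (G ⧸ K)) := by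
    rw [Subgroup.map_normalClosure _ _ hρs, Subgroup.coe_map]
  have h6 : S₁.map ρ ≤ centralizer ((normalClosure (S₂ : Set G)).map ρ : Set (G ⧸ K)) := by
    rintro _ ⟨s, hs, rfl⟩
    rw [mem_centralizer_iff]
    rintro _ ⟨y, hy, rfl⟩
    have h7 : normalClosure (S₂ : Set G) ≤ (centralizer ({ρ s} : Set (G ⧸ K))).comap ρ := by
      rw [normalClosure, closure_le]
      intro z hz
      rw [Group.mem_conjugatesOfSet_iff] at hz
      obtain ⟨s', hs', hz⟩ := hz
      obtain ⟨g, rfl⟩ := isConj_iff.1 hz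
      rw [SetLike.mem_coe, mem_comap, mem_centralizer_singleton_iff]
      exact (h3 s hs s' hs' g).symm
    have h8 := h7 hy
    rw [mem_comap, mem_centralizer_singleton_iff] at h8
    exact h8
  have hn : ((normalClosure (S₂ : Set G)).map ρ).Normal := by rw [h4]; infer_instance
  have h7 : (normalClosure (S₁ : Set G)).map ρ ≤ centralizer ((normalClosure (S₂ : Set G)).map ρ : Set (G ⧸ K)) := by
    rw [h5]
    exact normalClosure_le_normal h6
  have h8 : (⁅normalClosure (S₁ : Set G), normalClosure (S₂ : Set G)⁆).map ρ = ⊥ := by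
    rw [Subgroup.map_commutator]
    exact commutator_eq_bot_iff_le_centralizer.2 h7
  rw [Subgroup.map_eq_bot_iff, hρ, QuotientGroup.ker_mk'] at h8
  exact h8

/-- **The theorem.** -/
theorem main (hF : F1252.{u}) (S : Sylow 2 G) (S₁ S₂ : Subgroup G) (h₁ : IsStronglyClosed S₁ (S : Subgroup G))
    (h₂ : IsStronglyClosed S₂ (S : Subgroup G)) (hc : ∀ a ∈ S₁, ∀ b ∈ S₂, a * b = b * a) :
    ⁅normalClosure (S₁ : Set G), normalClosure (S₂ : Set G)⁆ ≤
      normalClosure ((S₁ ⊓ S₂ : Subgroup G) : Set G) ⊔ pPrimeCore 2 G := by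
  have h2 : Fact (Nat.Prime 2) := ⟨Nat.prime_two⟩
  set N := pPrimeCore 2 G with hN
  set π := QuotientGroup.mk' N with hπ
  have hs : Function.Surjective π := QuotientGroup.mk'_surjective N
  let S' : Sylow 2 (G ⧸ N) := S.mapSurjective hs
  have hNodd : Odd (Nat.card N) := Nat.coprime_two_right.1 (Cfsg.Agent.Lib.Cores.pPrimeCore_coprime 2)
  have hO : ∀ M : Subgroup (G ⧸ N), M.Normal → Odd (Nat.card M) → M = ⊥ := by
    intro M hM hodd
    rw [eq_bot_iff, ← Cfsg.Agent.Lib.Cores.pPrimeCore_quotient_pPrimeCore 2]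
    exact Cfsg.Agent.Lib.Cores.le_pPrimeCore hM (Nat.coprime_two_right.2 hodd)
  have hm : ∀ B : Subgroup G, (normalClosure (B : Set G)).map π =
      normalClosure ((B.map π : Subgroup (G ⧸ N)) : Set (G ⧸ N)) := by
    intro B
    rw [Subgroup.map_normalClosure _ _ hs, Subgroup.coe_map]
  have h3 := core_free hF hO S' (S₁.map π) (S₂.map π) (Cfsg.Agent.S1250.result S S₁ h₁ N)
    (Cfsg.Agent.S1250.result S S₂ h₂ N) (by
      rintro _ ⟨a, ha, rfl⟩ _ ⟨b, hb, rfl⟩
      rw [← map_mul, ← map_mul, hc a ha b hb])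
  have h4 : S₁.map π ⊓ S₂.map π = (S₁ ⊓ S₂).map π := by
    refine le_antisymm ?_ (Subgroup.map_inf_le _ _ _)
    rintro _ ⟨⟨a, ha, rfl⟩, ⟨b, hb, hba⟩⟩
    have h5 : a⁻¹ * b ∈ N := QuotientGroup.eq.1 hba.symm
    have h6 : a⁻¹ * b ∈ (S : Subgroup G) := mul_mem (inv_mem (h₁.1 ha)) (h₂.1 hb)
    obtain ⟨n, hn⟩ := S.2 ⟨a⁻¹ * b, h6⟩
    have h7 : a⁻¹ * b = 1 := by
      refine ScPairCen.eq_one_of_odd (k := n) (congrArg Subtype.val hn) hNodd ?_
      exact pow_card_eq_one' (x := (⟨a⁻¹ * b, h5⟩ : N)) |> congrArg Subtype.val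
    have h8 : a = b := inv_mul_eq_one.1 h7
    exact ⟨a, ⟨ha, h8 ▸ hb⟩, rfl⟩
  rw [h4, ← hm, ← hm, ← hm, ← Subgroup.map_commutator, map_le_iff_le_comap, Subgroup.comap_map_eq, hπ,
    QuotientGroup.ker_mk'] at h3
  exact h3

end

end Cfsg.Agent.H997.ScPairMain
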